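import Mathlib

/-!
# helper74: S14485 — the comparison map `X' ×_{S'} X' ⟶ X ×_S X` for a base change `X' = X ×_S S'`
-/

set_option autoImplicit false
universe u
open CategoryTheory CategoryTheory.Limits AlgebraicGeometry

namespace Groth.Agent.H74.WK

/-- the natural map `X' ×_{S'} X' ⟶ X ×_S X`, where `X' = X ×_S S'`. -/
noncomputable def pi {X S S' : Scheme.{u}} (f : X ⟶ S) (g : S' ⟶ S) :
    pullback (pullback.snd f g) (pullback.snd f g) ⟶ pullback f f :=
  pullback.map (pullback.snd f g) (pullback.snd f g) f f (pullback.fst f g) (pullback.fst f g) g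
    pullback.condition.symm pullback.condition.symm

end Groth.Agent.H74.WK
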