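import Mathlib
import Groth.Agent.H38.DimFibreSum
import Groth.Agent.H38.ProdDim
import Groth.Agent.H54.WI_DU
import Groth.Agent.H97.WI_DS

/-!
# helper74: (DP) dimension of the preimage of a locally closed subset under a morphism all of
whose fibres have dimension `d`
-/

set_option autoImplicit false
set_option linter.style.haveILetI false
universe u
open CategoryTheory CategoryTheory.Limits AlgebraicGeometry

namespace Groth.Agent.H74.WK.DP

open Groth.Agent.H54

theorem tdeg_le_dim_of_isLocallyClosed {k : Type u} [Field k] {V : Scheme.{u}}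
    (s : V ⟶ Spec (CommRingCat.of k)) [LocallyOfFiniteType s] (B : Set V)
    (hB : IsLocallyClosed B) (x : V) (hx : x ∈ B) :
    (tdeg s x : WithBot ℕ∞) ≤ topologicalKrullDim ↥B := by
  obtain ⟨U, C, hU, hC, rfl⟩ := hB
  rw [Set.inter_comm]
  exact Groth.Agent.H54.WI_DU.tdeg_le_dim_inter s C U hC hU x ⟨hx.2, hx.1⟩

theorem exists_le_tdeg_of_le_dim {k : Type u} [Field k] {V : Scheme.{u}}
    (s : V ⟶ Spec (CommRingCat.of k)) [LocallyOfFiniteType s] (B : Set V)
    (hB : IsLocallyClosed B) (n : ℕ) (h : (n : WithBot ℕ∞) ≤ topologicalKrullDim ↥B) :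
    ∃ x ∈ B, n ≤ tdeg s x := by
  haveI : QuasiSober ↥B := Groth.Agent.H97.WI_DS.quasiSober_of_isLocallyClosed hB
  by_contra hcon
  push Not at hcon
  rcases Nat.eq_zero_or_pos n with rfl | hn
  · -- `B` is nonempty
    have hne : Nonempty (TopologicalSpace.IrreducibleCloseds ↥B) := by
      by_contra hemp
      rw [not_nonempty_iff] at hemp
      have : topologicalKrullDim ↥B = ⊥ := by
        rw [topologicalKrullDim, Order.krullDim_eq_bot_iff]; exact hemp
      rw [this] at h
      exact absurd h (by simp)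
    obtain ⟨Z⟩ := hne
    obtain ⟨z, -⟩ := Z.isIrreducible.nonempty
    exact absurd (hcon z.1 z.2) (by omega)
  · have h1 : topologicalKrullDim ↥B ≤ ((n - 1 : ℕ) : WithBot ℕ∞) :=
      Groth.Agent.H97.WI_DS.topologicalKrullDim_subset_le_of_forall_tdeg_le s B (n - 1)
        (fun x hx => by have := hcon x hx; omega)
    have h2 : (n : WithBot ℕ∞) ≤ ((n - 1 : ℕ) : WithBot ℕ∞) := h.trans h1
    have h3 : n ≤ n - 1 := by exact_mod_cast h2
    omega

theorem dim_preimage_eq_add (k : Type u) [Field k] {W W' : Scheme.{u}}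
    (p : W ⟶ Spec (CommRingCat.of k)) [LocallyOfFiniteType p] (h : W' ⟶ W) [LocallyOfFiniteType h]
    (d : ℕ) (hd : ∀ w : W, topologicalKrullDim ↥(h.fiber w) = d) (A : Set W)
    (hA : IsLocallyClosed A) :
    topologicalKrullDim ↥(h.base ⁻¹' A) = topologicalKrullDim ↥A + d := by
  have hA' : IsLocallyClosed (h.base ⁻¹' A) := hA.preimage h.continuous
  haveI : QuasiSober ↥A := Groth.Agent.H97.WI_DS.quasiSober_of_isLocallyClosed hA
  haveI : QuasiSober ↥(h.base ⁻¹' A) := Groth.Agent.H97.WI_DS.quasiSober_of_isLocallyClosed hA'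
  have hfib : ∀ w : W, topologicalKrullDim ↥(h.base ⁻¹' {w}) = d := fun w => by
    rw [← (h.fiberHomeo w).isHomeomorph.topologicalKrullDim_eq]; exact hd w
  -- lower bound, uniformly
  have hlow : ∀ n : ℕ, (n : WithBot ℕ∞) ≤ topologicalKrullDim ↥A →
      ((n + d : ℕ) : WithBot ℕ∞) ≤ topologicalKrullDim ↥(h.base ⁻¹' A) := by
    intro n hn
    obtain ⟨w, hwA, hw⟩ := exists_le_tdeg_of_le_dim p A hA n hn
    obtain ⟨w', hw'1, hw'2⟩ := Groth.Agent.H38.DimFibreSum.exists_point_over p h d w
      (le_of_eq (hfib w).symm)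
    have hmem : w' ∈ h.base ⁻¹' A := by
      show h.base w' ∈ A
      rw [hw'1]; exact hwA
    have h1 := tdeg_le_dim_of_isLocallyClosed (h ≫ p) (h.base ⁻¹' A) hA' w' hmem
    have h2 : ((n + d : ℕ) : WithBot ℕ∞) ≤ (tdeg (h ≫ p) w' : WithBot ℕ∞) := by
      exact_mod_cast (by omega : n + d ≤ tdeg (h ≫ p) w')
    exact h2.trans h1
  -- upper bound for finite dimension
  have hup : ∀ m : ℕ, topologicalKrullDim ↥A ≤ (m : WithBot ℕ∞) →
      topologicalKrullDim ↥(h.base ⁻¹' A) ≤ ((m + d : ℕ) : WithBot ℕ∞) := by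
    intro m hm
    apply Groth.Agent.H97.WI_DS.topologicalKrullDim_subset_le_of_forall_tdeg_le (h ≫ p)
    intro w' hw'
    have h1 := Groth.Agent.H38.DimFibreSum.tdeg_le_add_dim_fibre p h d w' (le_of_eq (hfib _))
    have h2 := (tdeg_le_dim_of_isLocallyClosed p A hA (h.base w') hw').trans hm
    have h3 : tdeg p (h.base w') ≤ m := by exact_mod_cast h2
    omega
  induction hdim : topologicalKrullDim ↥A using WithBot.recBotCoe with
  | bot =>
    -- `A` is empty
    have hAe : IsEmpty ↥A := by
      by_contra hne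
      rw [not_isEmpty_iff] at hne
      obtain ⟨a⟩ := hne
      haveI : Nonempty (TopologicalSpace.IrreducibleCloseds ↥A) :=
        ⟨⟨closure {a}, isIrreducible_singleton.closure, isClosed_closure⟩⟩
      have h0 : (0 : WithBot ℕ∞) ≤ topologicalKrullDim ↥A := Order.krullDim_nonneg
      rw [hdim] at h0
      exact absurd h0 (by simp)
    have hAe' : IsEmpty ↥(h.base ⁻¹' A) := ⟨fun x => hAe.false ⟨h.base x.1, x.2⟩⟩
    rw [WithBot.bot_add]
    rw [topologicalKrullDim, Order.krullDim_eq_bot_iff]
    exact ⟨fun Z => hAe'.false Z.isIrreducible.nonempty.some⟩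
  | coe m =>
    induction m using ENat.recTopCoe with
    | top =>
      have htop : topologicalKrullDim ↥(h.base ⁻¹' A) = ⊤ := by
        apply Groth.Agent.H38.ProdDim.eq_top_of_forall_natCast_le
        intro r
        have h1 := hlow r (by rw [hdim]; exact le_top)
        refine le_trans ?_ h1
        exact_mod_cast Nat.le_add_right r d
      rw [htop]
      rfl
    | coe m =>
      apply le_antisymm
      · have := hup m (le_of_eq hdim)
        refine this.trans (le_of_eq ?_)
        push_cast
        rfl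
      · have := hlow m (le_of_eq hdim.symm)
        refine le_trans (le_of_eq ?_) this
        push_cast
        rfl

end Groth.Agent.H74.WK.DP
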