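import Mathlib
import Groth.Agent.H74.WK.Defs
import Groth.Agent.H74.WK.DP
import Groth.Agent.H86.WK_FB
import Groth.Agent.H66.WK_SQ

/-!
# helper74: S14485 assembly — well-intersection is invariant under a surjective base change all of
whose fibres have dimension `d`
-/

set_option autoImplicit false
set_option linter.style.haveILetI false
universe u
open CategoryTheory CategoryTheory.Limits AlgebraicGeometry

namespace Groth.Agent.H74.WK

theorem add_nat_le_add_nat_iff (a b : WithBot ℕ∞) (n : ℕ) :
    a + (n : WithBot ℕ∞) ≤ b + n ↔ a ≤ b := by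
  induction a using WithBot.recBotCoe with
  | bot => simp
  | coe a =>
    induction b using WithBot.recBotCoe with
    | bot => simp
    | coe b =>
      have h1 : ((a : WithBot ℕ∞) + (n : WithBot ℕ∞)) = ((a + (n : ℕ∞) : ℕ∞) : WithBot ℕ∞) := by
        push_cast; rfl
      have h2 : ((b : WithBot ℕ∞) + (n : WithBot ℕ∞)) = ((b + (n : ℕ∞) : ℕ∞) : WithBot ℕ∞) := by
        push_cast; rfl
      rw [h1, h2, WithBot.coe_le_coe, WithBot.coe_le_coe]
      exact WithTop.add_le_add_iff_right (ENat.natCast_ne_top n)

theorem arith2 (e s y z : WithBot ℕ∞) (d : ℕ) :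
    (e + d) + (s + d) ≤ (y + d) + (z + d) ↔ e + s ≤ y + z := by
  rw [add_add_add_comm e, add_add_add_comm y, ← Nat.cast_add, add_nat_le_add_nat_iff]

theorem pi_fst {X S S' : Scheme.{u}} (f : X ⟶ S) (g : S' ⟶ S) :
    pi f g ≫ pullback.fst f f =
      pullback.fst (pullback.snd f g) (pullback.snd f g) ≫ pullback.fst f g :=
  pullback.lift_fst _ _ _

theorem pi_snd {X S S' : Scheme.{u}} (f : X ⟶ S) (g : S' ⟶ S) :
    pi f g ≫ pullback.snd f f =
      pullback.snd (pullback.snd f g) (pullback.snd f g) ≫ pullback.fst f g :=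
  pullback.lift_snd _ _ _

theorem main (k : Type u) [Field k] (X S S' : Scheme.{u})
    (q : S ⟶ Spec (CommRingCat.of k)) (f : X ⟶ S) (g : S' ⟶ S)
    [LocallyOfFiniteType q] [LocallyOfFiniteType f] [IsSeparated f]
    [LocallyOfFiniteType g]
    (d : ℕ) (hd : ∀ s : S, topologicalKrullDim (g.fiber s) = d)
    (Y Z : Set X) (hYc : IsClosed Y) (hZc : IsClosed Z) :
    (topologicalKrullDim {p : ↥(pullback f f) | pullback.fst f f p ∈ Y ∧
      pullback.snd f f p ∈ Z ∧ p ∉ Set.range (pullback.diagonal f)} + topologicalKrullDim S ≤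
        topologicalKrullDim Y + topologicalKrullDim Z) ↔
      (topologicalKrullDim {p : ↥(pullback (pullback.snd f g) (pullback.snd f g)) |
        pullback.fst (pullback.snd f g) (pullback.snd f g) p ∈ ((pullback.fst f g) ⁻¹' Y) ∧
        pullback.snd (pullback.snd f g) (pullback.snd f g) p ∈ ((pullback.fst f g) ⁻¹' Z) ∧
        p ∉ Set.range (pullback.diagonal (pullback.snd f g))} + topologicalKrullDim S' ≤
        topologicalKrullDim ((pullback.fst f g) ⁻¹' Y) +
          topologicalKrullDim ((pullback.fst f g) ⁻¹' Z)) := by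
  -- the off-diagonal set and its preimage
  let E : Set ↥(pullback f f) := {p : ↥(pullback f f) | pullback.fst f f p ∈ Y ∧
      pullback.snd f f p ∈ Z ∧ p ∉ Set.range (pullback.diagonal f)}
  have hElc : IsLocallyClosed E := by
    have hFc : IsClosed {p : ↥(pullback f f) | pullback.fst f f p ∈ Y ∧ pullback.snd f f p ∈ Z} :=
      (hYc.preimage (pullback.fst f f).continuous).inter
        (hZc.preimage (pullback.snd f f).continuous)
    have hDc : IsClosed (Set.range (pullback.diagonal f)) :=
      (pullback.diagonal f).isClosedEmbedding.isClosed_range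
    have hE : E = {p : ↥(pullback f f) | pullback.fst f f p ∈ Y ∧ pullback.snd f f p ∈ Z} ∩
        (Set.range (pullback.diagonal f))ᶜ := by
      ext p
      exact ⟨fun ⟨a, b, c⟩ => ⟨⟨a, b⟩, c⟩, fun ⟨⟨a, b⟩, c⟩ => ⟨a, b, c⟩⟩
    rw [hE]
    exact hFc.isLocallyClosed.inter hDc.isOpen_compl.isLocallyClosed
  have hpre : {p : ↥(pullback (pullback.snd f g) (pullback.snd f g)) |
        pullback.fst (pullback.snd f g) (pullback.snd f g) p ∈ ((pullback.fst f g) ⁻¹' Y) ∧
        pullback.snd (pullback.snd f g) (pullback.snd f g) p ∈ ((pullback.fst f g) ⁻¹' Z) ∧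
        p ∉ Set.range (pullback.diagonal (pullback.snd f g))} = (pi f g).base ⁻¹' E := by
    ext p'
    have e1 : pullback.fst f f ((pi f g) p') =
        pullback.fst f g (pullback.fst (pullback.snd f g) (pullback.snd f g) p') := by
      rw [← Scheme.Hom.comp_apply, pi_fst, Scheme.Hom.comp_apply]
    have e2 : pullback.snd f f ((pi f g) p') =
        pullback.fst f g (pullback.snd (pullback.snd f g) (pullback.snd f g) p') := by
      rw [← Scheme.Hom.comp_apply, pi_snd, Scheme.Hom.comp_apply]
    have e3 : p' ∈ Set.range (pullback.diagonal (pullback.snd f g)) ↔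
        (pi f g) p' ∈ Set.range (pullback.diagonal f) := by
      have sq := Groth.Agent.H66.WK_SQ.isPullback_diagonal f g
      constructor
      · rintro ⟨x', rfl⟩
        refine ⟨pullback.fst f g x', ?_⟩
        rw [← Scheme.Hom.comp_apply, ← Scheme.Hom.comp_apply, sq.w]
      · rintro ⟨x, hx⟩
        obtain ⟨o, ho1, -⟩ := Scheme.exists_preimage_of_isPullback sq p' x hx.symm
        exact ⟨o, ho1⟩
    constructor
    · rintro ⟨h1, h2, h3⟩
      refine ⟨?_, ?_, fun h => h3 (e3.mpr h)⟩
      · show pullback.fst f f ((pi f g) p') ∈ Y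
        rw [e1]; exact h1
      · show pullback.snd f f ((pi f g) p') ∈ Z
        rw [e2]; exact h2
    · rintro ⟨h1, h2, h3⟩
      change pullback.fst f f ((pi f g) p') ∈ Y at h1
      change pullback.snd f f ((pi f g) p') ∈ Z at h2
      rw [e1] at h1
      rw [e2] at h2
      exact ⟨h1, h2, fun h => h3 (e3.mp h)⟩
  -- fibre dimensions of the base changes
  have hfst : ∀ x : X, topologicalKrullDim ↥((pullback.fst f g).fiber x) = d := by
    intro x
    rw [Groth.Agent.H86.WK_FB.dim_fiber_of_isPullback (IsPullback.of_hasPullback f g).flip x]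
    exact hd _
  have sqpi := Groth.Agent.H66.WK_SQ.isPullback_pi f g
  haveI : LocallyOfFiniteType (pi f g) :=
    MorphismProperty.of_isPullback (P := @LocallyOfFiniteType) sqpi.flip inferInstance
  have hpi : ∀ t : ↥(pullback f f), topologicalKrullDim ↥((pi f g).fiber t) = d := by
    intro t
    rw [Groth.Agent.H86.WK_FB.dim_fiber_of_isPullback sqpi.flip t]
    exact hd _
  -- the four dimension formulas
  have hE' := DP.dim_preimage_eq_add k (pullback.fst f f ≫ f ≫ q) (pi f g) d hpi E hElc
  have hY' := DP.dim_preimage_eq_add k (f ≫ q) (pullback.fst f g) d hfst Y hYc.isLocallyClosed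
  have hZ' := DP.dim_preimage_eq_add k (f ≫ q) (pullback.fst f g) d hfst Z hZc.isLocallyClosed
  have hS' : topologicalKrullDim S' = topologicalKrullDim S + d := by
    have h := DP.dim_preimage_eq_add k q g d hd Set.univ isOpen_univ.isLocallyClosed
    rw [Set.preimage_univ] at h
    rw [← (Homeomorph.Set.univ S').isHomeomorph.topologicalKrullDim_eq,
      ← (Homeomorph.Set.univ S).isHomeomorph.topologicalKrullDim_eq]
    exact h
  rw [hpre]
  change _ ↔ topologicalKrullDim ↥((pi f g).base ⁻¹' E) + topologicalKrullDim S' ≤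
    topologicalKrullDim ↥((pullback.fst f g).base ⁻¹' Y) +
      topologicalKrullDim ↥((pullback.fst f g).base ⁻¹' Z)
  rw [hE', hY', hZ', hS', arith2]

end Groth.Agent.H74.WK
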